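import Cfsg.Agent.Triality3T.Cases

/-!
# Classes of 3-transpositions with disconnected commuting graph: triality
-/

set_option autoImplicit false

open Cfsg Module QuadraticMap
open Cfsg.Agent.Classical.Quad

namespace Cfsg.Agent.Triality3T

universe u

variable {G : Type u} [Group G] [Finite G] {D : Set G}

/-- Over two elements the simple group is the derived group itself. -/
theorem pomega_two_equiv : Nonempty (Cfsg.POmega (ZMod 2) (Cfsg.quadFormPlus 4 (ZMod 2)) ≃*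
    ↥(Cfsg.Omega (ZMod 2) (Cfsg.quadFormPlus 4 (ZMod 2)))) := by
  have hQ : (polarBilin (AutPOmega.qPlus (ZMod 2) 4)).Nondegenerate := GraphForms.nondeg_qPlus
  have h1 : Nat.card (Subgroup.center (Cfsg.Omega (ZMod 2) (Cfsg.quadFormPlus 4 (ZMod 2)))) = 1 :=
    (card_center_omega (Q := AutPOmega.qPlus (ZMod 2) 4) hQ (by simp)).2 (Or.inr (by decide))
  exact ⟨(QuotientGroup.quotientMulEquivOfEq (Subgroup.card_eq_one.1 h1)).trans
    QuotientGroup.quotientBot⟩

theorem main (K : FischerThm.Cases.{u}) (hD : IsThreeTranspositionClass D)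
    (hZ : Subgroup.center G = ⊥) (h2 : pCore 2 G = ⊥) (h3 : pCore 3 G = ⊥)
    (hdisc : ¬ (commutingGraph D).Connected) (F : Subgroup G) [F.Normal]
    (hF : F = generalizedFittingSubgroup G) :
    Nonempty (G ⧸ F ≃* Equiv.Perm (Fin 3)) ∧
      (Nonempty (F ≃* Cfsg.Omega (ZMod 2) (Cfsg.quadFormPlus 4 (ZMod 2))) ∨
        Nonempty (F ≃* Cfsg.POmega (ZMod 3) (Cfsg.quadFormPlus 4 (ZMod 3)))) := by
  obtain ⟨L, h⟩ := exists_data hD hZ h2 h3 hdisc
  obtain rfl : F = L := hF.trans h.fstar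
  obtain ⟨d, hd⟩ : D.Nonempty := by obtain ⟨a, ha, -⟩ := id hD.2.1; exact ⟨a, ha⟩
  obtain ⟨e0⟩ := h.derived_equiv hd
  have := Fact.mk Nat.prime_three
  rcases classify K (h.hyp hd) with hp | ⟨k, h3k, hk⟩ | ⟨⟨e⟩⟩ | ⟨⟨e⟩⟩
  · exact (h.false_of_perfect hd hp).elim
  · exact (h.false_of_aut hd (MulEquiv.refl _) hk h3k).elim
  · obtain ⟨e'⟩ := pomega_two_equiv
    refine ⟨h.quot_sym hd e (Agent.S0817.result (F := ZMod 2) 2 1 le_rfl (by norm_num) 4 le_rfl)
      (by norm_num), Or.inl ⟨(e0.symm.trans e).trans e'⟩⟩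
  · refine ⟨h.quot_sym hd e (Agent.S0817.result (F := ZMod 3) 3 1 le_rfl (by norm_num) 4 le_rfl)
      ?_, Or.inr ⟨e0.symm.trans e⟩⟩
    norm_num [Nat.even_iff]

end Cfsg.Agent.Triality3T
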