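import Cfsg.Agent.ThreeTrans.OrthThree
import Cfsg.Agent.Classical.ExcCore
import Cfsg.Agent.Classical.QuadStd
import Cfsg.Agent.S0265
import Cfsg.Agent.S0301
import Cfsg.Agent.S0302
import Cfsg.Agent.S0303
import Cfsg.Agent.S0813
import Cfsg.Agent.S0814
import Cfsg.Agent.S0815
import Cfsg.Agent.S0816
import Cfsg.Agent.S0817
import Cfsg.Agent.S0818

/-!
# Orthogonal groups over three elements

The derived group of a projective reflection group is the simple orthogonal group, and outside
dimension eight of plus type its outer automorphism group has order prime to three.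
-/

set_option autoImplicit false

open Cfsg Module QuadraticMap
open Cfsg.Agent.Classical.Quad

namespace Cfsg.Agent.Triality3T

universe v

/-- The automorphism group has order `k` times the order of the group, `3 ∤ k`. -/
def OutOK (X : Type v) [Group X] : Prop :=
  ∃ k : ℕ, ¬ 3 ∣ k ∧ Nat.card (MulAut X) = k * Nat.card X

theorem OutOK.congr {X : Type v} [Group X] {Y : Type*} [Group Y] (e : Y ≃* X) (h : OutOK X) :
    OutOK Y := by
  obtain ⟨k, h3, hk⟩ := h
  exact ⟨k, h3, by rw [Nat.card_congr (MulAut.congr e).toEquiv, hk, Nat.card_congr e.toEquiv]⟩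

section Congr

variable {F : Type*} [Field F] {ι κ : Type} [Fintype ι] [DecidableEq ι] [Fintype κ] [DecidableEq κ]

/-- Forms with the same isometries have the same simple group. -/
theorem pomega_of_group_eq {P P' : (ι → F) → F}
    (h : Cfsg.isometryGroup F P = Cfsg.isometryGroup F P') :
    Nonempty (Cfsg.POmega F P ≃* Cfsg.POmega F P') := by
  unfold Cfsg.POmega Cfsg.Omega
  rw [h]
  exact ⟨MulEquiv.refl _⟩

theorem isometryGroup_smul {c : F} (hc : c ≠ 0) (P : (ι → F) → F) :
    Cfsg.isometryGroup F (fun x => c * P x) = Cfsg.isometryGroup F P := by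
  refine SetLike.ext fun g => ?_
  constructor
  · intro hg x u
    exact mul_left_cancel₀ hc (hg x u)
  · intro hg x u
    exact congrArg (c * ·) (hg x u)

/-- Similar forms have the same simple group. -/
theorem pomega_of_similar {Q : QuadraticForm F (ι → F)} {P : (κ → F) → F} {c : F} (hc : c ≠ 0)
    (e : (κ → F) ≃ₗ[F] (ι → F)) (he : ∀ x, Q (e x) = c * P x) :
    Nonempty (Cfsg.POmega F ⇑Q ≃* Cfsg.POmega F P) := by
  obtain ⟨e1⟩ := Classical.Exc.pomega_equiv (Q := Q) (Q' := fun x => c * P x) e he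
  obtain ⟨e2⟩ := Classical.Exc.pomega_equiv (Q := Q) (Q' := ⇑Q) (LinearEquiv.refl F _) fun _ => rfl
  obtain ⟨e3⟩ := pomega_of_group_eq (isometryGroup_smul hc P)
  exact ⟨(e2.trans e1.symm).trans e3⟩

end Congr

theorem aniso_three : ∀ z₁ z₂ : ZMod 3, z₁ ^ 2 + 0 * z₁ * z₂ + 1 * z₂ ^ 2 = 0 → z₁ = 0 ∧ z₂ = 0 := by
  decide

/-- The standard models. -/
theorem exists_standard {n : ℕ} {Q : QuadraticForm (ZMod 3) (Fin n → ZMod 3)}
    (hQ : (polarBilin Q).Nondegenerate) (hn : 5 ≤ n) :
    (∃ m, n = 2 * m + 1 ∧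
      Nonempty (Cfsg.POmega (ZMod 3) ⇑Q ≃* Cfsg.POmega (ZMod 3) (Cfsg.quadFormOdd m (ZMod 3)))) ∨
    (∃ m, n = 2 * m ∧
      (Nonempty (Cfsg.POmega (ZMod 3) ⇑Q ≃* Cfsg.POmega (ZMod 3) (Cfsg.quadFormPlus m (ZMod 3))) ∨
        Nonempty (Cfsg.POmega (ZMod 3) ⇑Q ≃*
          Cfsg.POmega (ZMod 3) (Cfsg.quadFormMinus (m - 1) (ZMod 3) 0 1)))) := by
  rcases Nat.even_or_odd' n with ⟨m, rfl | rfl⟩
  · refine Or.inr ⟨m, rfl, ?_⟩
    rcases even_cases hQ (m := m) (finrank_fin_fun _) with ⟨e, he⟩ | ⟨-, h⟩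
    · exact Or.inl (pomega_of_similar one_ne_zero ((plusCoord m).trans e) fun x => by
        rw [LinearEquiv.trans_apply, he, plusCoord_map, one_mul])
    · obtain ⟨e, he⟩ := h 0 1 aniso_three
      exact Or.inr (pomega_of_similar one_ne_zero ((minusCoord (m - 1)).trans e) fun x => by
        rw [LinearEquiv.trans_apply, he, minusCoord_map, one_mul])
  · refine Or.inl ⟨m, rfl, ?_⟩
    obtain ⟨c, hc, -, e, he⟩ := odd_case hQ (m := m) (finrank_fin_fun _)
    let scale : (((Fin m → ZMod 3) × (Fin m → ZMod 3)) × ZMod 3) ≃ₗ[ZMod 3]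
        (((Fin m → ZMod 3) × (Fin m → ZMod 3)) × ZMod 3) :=
      ((LinearEquiv.refl _ _).prodCongr (LinearEquiv.smulOfUnit (Units.mk0 c hc))).prodCongr
        (LinearEquiv.refl _ _)
    refine pomega_of_similar hc (((oddCoord m).trans scale).trans e) fun x => ?_
    rw [LinearEquiv.trans_apply, he, ← oddCoord_map, LinearEquiv.trans_apply, hyp_apply, hyp_apply]
    simp only [scale, LinearEquiv.prodCongr_apply, LinearEquiv.refl_apply, QuadraticMap.smul_apply,
      smul_eq_mul, mul_add, Finset.mul_sum]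
    congr 1
    exact Finset.sum_congr rfl fun i _ => by
      show _ * (c * _) = _
      ring

theorem dvd_eight_not_three {k : ℕ} (h : k ∣ 16) : ¬ 3 ∣ k := fun h3 => by
  have := h3.trans h
  norm_num at this

theorem card_center_sl (n : ℕ) [NeZero n] (F : Type*) [Field F] [Fintype F] [DecidableEq F] :
    Nat.card (Subgroup.center (Matrix.SpecialLinearGroup (Fin n) F)) ∣ Fintype.card F - 1 := by
  have e := Nat.card_congr
    (Matrix.SpecialLinearGroup.center_equiv_rootsOfUnity' (R := F) (0 : Fin n)).toEquiv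
  rw [e]
  refine (Subgroup.card_subgroup_dvd_card (rootsOfUnity (Fintype.card (Fin n)) F)).trans ?_
  rw [Nat.card_units, Nat.card_eq_fintype_card]

theorem outOK_psl (n : ℕ) [NeZero n] (F : Type) [Field F] [Fintype F] [DecidableEq F] (p f : ℕ)
    [Fact p.Prime] (hf : 1 ≤ f) (hf3 : f ∣ 2) (hF : Fintype.card F = p ^ f) (hn : 2 ≤ n)
    (h2 : n = 2 → 4 ≤ p ^ f) (hu : ¬ 3 ∣ Fintype.card F - 1) :
    OutOK (Matrix.ProjectiveSpecialLinearGroup (Fin n) F) := by
  refine ⟨(if n = 2 then 1 else 2) * f *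
    Nat.card (Subgroup.center (Matrix.SpecialLinearGroup (Fin n) F)), ?_, ?_⟩
  · intro h
    rcases (Nat.Prime.dvd_mul Nat.prime_three).1 h with h | h
    · rcases (Nat.Prime.dvd_mul Nat.prime_three).1 h with h | h
      · split at h <;> norm_num at h
      · have := h.trans hf3
        norm_num at this
    · exact hu (h.trans (card_center_sl n F))
  · rw [Agent.S0813.result p f hf hF n hn h2, Agent.S0265.result,
      Subgroup.card_eq_card_quotient_mul_card_subgroup
        (Subgroup.center (Matrix.SpecialLinearGroup (Fin n) F))]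
    show _ = _ * Nat.card (Matrix.SpecialLinearGroup (Fin n) F ⧸ _)
    ring

theorem outOK_psu_four : ∃ (K : Type) (_ : Field K) (_ : Fintype K),
    Fintype.card K = 3 ^ 2 ∧ OutOK (Cfsg.PSU 4 K 3) := by
  have := Fact.mk Nat.prime_three
  letI : Fintype (GaloisField 3 2) := Fintype.ofFinite _
  have hK : Fintype.card (GaloisField 3 2) = 3 ^ 2 := by
    rw [← Nat.card_eq_fintype_card, GaloisField.card 3 2 two_ne_zero]
  refine ⟨GaloisField 3 2, inferInstance, inferInstance, hK, Nat.gcd 4 (3 + 1) * (2 * 1), by norm_num, ?_⟩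
  exact Agent.S0815.result 3 1 le_rfl (q := 3) (by norm_num) hK 4 (by norm_num) (by norm_num)

/-- Outside dimension eight the outer automorphism group has order prime to three; in dimension
eight the exception is the hyperbolic form. -/
theorem outOK_pomega {n : ℕ} {Q : QuadraticForm (ZMod 3) (Fin n → ZMod 3)}
    (hQ : (polarBilin Q).Nondegenerate) (hn : 5 ≤ n) :
    OutOK (Cfsg.POmega (ZMod 3) ⇑Q) ∨
      Nonempty (Cfsg.POmega (ZMod 3) ⇑Q ≃* Cfsg.POmega (ZMod 3) (Cfsg.quadFormPlus 4 (ZMod 3))) := by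
  have := Fact.mk Nat.prime_three
  have h31 : Fintype.card (ZMod 3) = 3 ^ 1 := by norm_num
  rcases exists_standard hQ hn with ⟨m, rfl, ⟨e⟩⟩ | ⟨m, rfl, he | he⟩
  · refine Or.inl (OutOK.congr e ?_)
    rcases (show m = 2 ∨ 3 ≤ m by omega) with rfl | hm
    · obtain ⟨e'⟩ := Agent.S0301.result (F := ZMod 3) (by rw [h31]; decide)
      refine OutOK.congr e' ⟨(if 2 = 2 ∧ 3 = 2 then 2 else 1) * Nat.gcd 2 (3 ^ 1 - 1) * 1, by norm_num, ?_⟩
      exact Agent.S0814.result 3 1 le_rfl h31 2 le_rfl (by norm_num)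
    · exact ⟨2 * 1, by norm_num, Agent.S0816.result 3 1 le_rfl h31 (by decide) m hm⟩
  · obtain ⟨e⟩ := he
    rcases (show m = 3 ∨ m = 4 ∨ 5 ≤ m by omega) with rfl | rfl | hm
    · refine Or.inl (OutOK.congr e ?_)
      obtain ⟨e'⟩ := Agent.S0302.result (F := ZMod 3)
      exact OutOK.congr e' (outOK_psl 4 (ZMod 3) 3 1 le_rfl (by norm_num) h31 (by norm_num)
        (by norm_num) (by rw [h31]; norm_num))
    · exact Or.inr ⟨e⟩
    · refine Or.inl (OutOK.congr e ⟨_, ?_, Agent.S0817.result 3 1 le_rfl h31 m (by omega)⟩)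
      rw [if_neg (by omega : ¬ m = 4)]
      refine dvd_eight_not_three ?_
      split <;> first | (split <;> norm_num) | norm_num
  · obtain ⟨e⟩ := he
    refine Or.inl (OutOK.congr e ?_)
    rcases (show m = 3 ∨ 4 ≤ m by omega) with rfl | hm
    · obtain ⟨K, iF, iT, hK, h⟩ := outOK_psu_four
      obtain ⟨e'⟩ := Agent.S0303.result (F := ZMod 3) (K := K) (q := 3) (by norm_num) hK 0 1 aniso_three
      exact OutOK.congr e' h
    · refine ⟨_, ?_, Agent.S0818.result 3 1 le_rfl h31 m hm 0 1 aniso_three⟩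
      refine dvd_eight_not_three ?_
      split <;> first | (split <;> norm_num) | norm_num

/-- The derived group of a projective reflection group is the simple orthogonal group. -/
theorem refl_derived {n : ℕ} {Q : QuadraticForm (ZMod 3) (Fin n → ZMod 3)}
    (hQ : (polarBilin Q).Nondegenerate) (hn : 5 ≤ n) {c : ZMod 3} (hc : c ≠ 0) :
    Nonempty (↥(commutator (↥(Cfsg.reflectionSubgroup (⇑Q) c) ⧸
        Subgroup.center ↥(Cfsg.reflectionSubgroup (⇑Q) c))) ≃* Cfsg.POmega (ZMod 3) ⇑Q) := by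
  have h5 : 5 ≤ finrank (ZMod 3) (Fin n → ZMod 3) := by rwa [finrank_fin_fun]
  have hle := ThreeTrans.OrthThree.omega_le hn hQ hc
  set R := Cfsg.reflectionSubgroup (⇑Q) c
  set W := (Cfsg.Omega (ZMod 3) ⇑Q).subgroupOf R with hW
  have hWn : W.Normal := Subgroup.Normal.comap inferInstance _
  have hperf : Group.IsPerfect ↥W := by
    have hp : Group.IsPerfect ↥(eo Q) := Subgroup.isPerfect_iff.2
      (le_antisymm (Subgroup.commutator_le_self _) (eo_le_commutator_eo hQ h5))
    exact Group.IsPerfect.ofSurjective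
      (f := (((Subgroup.subgroupOfEquivOfLe hle).trans (omegaEquiv hQ h5)).symm).toMonoidHom)
      (MulEquiv.surjective _)
  have hidx : W.index ≤ 2 := by
    have h1 := Subgroup.relIndex_mul_index hle
    rw [index_omega, index_commutator_odd hQ (by decide) (by omega),
      ThreeTrans.OrthThree.index_reflectionSubgroup hn hQ hc] at h1
    show (Cfsg.Omega (ZMod 3) ⇑Q).relIndex R ≤ 2
    have h1' : (Cfsg.Omega (ZMod 3) ⇑Q).relIndex R * 2 = 4 := h1
    omega
  let π := QuotientGroup.mk' (Subgroup.center ↥R)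
  let f : Cfsg.Omega (ZMod 3) ⇑Q →* ↥R ⧸ Subgroup.center ↥R := π.comp (Subgroup.inclusion hle)
  have hrange : f.range = commutator (↥R ⧸ Subgroup.center ↥R) := by
    have hr : f.range = W.map π := by
      ext x
      constructor
      · rintro ⟨g, rfl⟩
        exact ⟨Subgroup.inclusion hle g, g.2, rfl⟩
      · rintro ⟨g, hg, rfl⟩
        exact ⟨⟨g, hg⟩, rfl⟩
    have hcR : commutator ↥R = W := by
      refine le_antisymm ?_ ?_
      · rw [← Subgroup.Normal.quotient_commutative_iff_commutator_le]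
        refine ⟨⟨fun a b => ?_⟩⟩
        have hc2 : Nat.card (↥R ⧸ W) ≤ 2 := by rwa [← Subgroup.index_eq_card]
        by_cases ha : a = 1
        · rw [ha, one_mul, mul_one]
        by_cases hb : b = 1
        · rw [hb, one_mul, mul_one]
        have : a = b := by
          by_contra hab
          have h3 : ({1, a, b} : Set (↥R ⧸ W)).ncard = 3 :=
            Set.ncard_eq_three.2 ⟨1, a, b, Ne.symm ha, Ne.symm hb, hab, rfl⟩
          have := Set.ncard_le_card ({1, a, b} : Set (↥R ⧸ W))
          omega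
        rw [this]
      · calc W = ⁅W, W⁆ := (Subgroup.isPerfect_iff.1 hperf).symm
          _ ≤ commutator ↥R := Subgroup.commutator_mono le_top le_top
    rw [hr, ← hcR, commutator_def, Subgroup.map_commutator,
      Subgroup.map_top_of_surjective _ (QuotientGroup.mk'_surjective _)]
    rfl
  have hsimple := Classical.Quad.isSimpleGroup_pomega hQ h5
  have hker : f.ker = Subgroup.center (Cfsg.Omega (ZMod 3) ⇑Q) := by
    have hle' : Subgroup.center (Cfsg.Omega (ZMod 3) ⇑Q) ≤ f.ker ⊔ Subgroup.center _ := le_sup_right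
    have hfle : f.ker ≤ Subgroup.center (Cfsg.Omega (ZMod 3) ⇑Q) := fun g hg => by
      have : Subgroup.inclusion hle g ∈ Subgroup.center ↥R := (QuotientGroup.eq_one_iff _).1 hg
      refine Subgroup.mem_center_iff.2 fun x => Subgroup.inclusion_injective hle ?_
      rw [map_mul, map_mul]
      exact Subgroup.mem_center_iff.1 this _
    refine le_antisymm hfle fun g hg => (QuotientGroup.eq_one_iff _).2 ?_
    refine Subgroup.mem_center_iff.2 fun r => Subtype.ext ?_
    -- the centre of `Ω` has order at most two, so the isometries centralise it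
    have hcard : Nat.card (Subgroup.center (Cfsg.Omega (ZMod 3) ⇑Q)) ≤ 2 := by
      by_cases hm : ∃ g : Cfsg.isometryGroup (ZMod 3) ⇑Q, g ∈ Cfsg.Omega (ZMod 3) ⇑Q ∧
          ((g : GL (Fin n) (ZMod 3)) : Matrix (Fin n) (Fin n) (ZMod 3)) = -1
      · exact ((card_center_omega hQ h5).1 ⟨hm, by decide⟩).le
      · exact ((card_center_omega hQ h5).2 (Or.inl hm)).le.trans (by norm_num)
    show (r : Cfsg.isometryGroup (ZMod 3) ⇑Q) * g.1 = g.1 * (r : Cfsg.isometryGroup (ZMod 3) ⇑Q)
    by_cases h1 : g = 1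
    · rw [h1]; simp
    let g' : Cfsg.Omega (ZMod 3) ⇑Q := MulAut.conjNormal (r : Cfsg.isometryGroup (ZMod 3) ⇑Q) g
    have hg' : g' ∈ Subgroup.center (Cfsg.Omega (ZMod 3) ⇑Q) := Subgroup.mem_center_iff.2 fun x => by
      obtain ⟨y, rfl⟩ := (MulAut.conjNormal (r : Cfsg.isometryGroup (ZMod 3) ⇑Q) :
        MulAut (Cfsg.Omega (ZMod 3) ⇑Q)).surjective x
      simp only [g', ← map_mul, Subgroup.mem_center_iff.1 hg y]
    have hne : g' ≠ 1 := fun h => h1 <| by
      have := (MulAut.conjNormal (r : Cfsg.isometryGroup (ZMod 3) ⇑Q) :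
        MulAut (Cfsg.Omega (ZMod 3) ⇑Q)).injective (h.trans (map_one _).symm)
      exact this
    have h2 : 1 < Nat.card (Subgroup.center (Cfsg.Omega (ZMod 3) ⇑Q)) :=
      (Finite.one_lt_card_iff_nontrivial).2 ⟨⟨g, hg⟩, 1, fun h => h1 (congrArg Subtype.val h)⟩
    obtain ⟨y, -, hy⟩ := (Nat.card_eq_two_iff'
      (1 : ↥(Subgroup.center (Cfsg.Omega (ZMod 3) ⇑Q)))).1 (le_antisymm hcard h2)
    have heq : g' = g := congrArg Subtype.val
      ((hy ⟨g', hg'⟩ fun h => hne (congrArg Subtype.val h)).trans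
        (hy ⟨g, hg⟩ fun h => h1 (congrArg Subtype.val h)).symm)
    have := congrArg Subtype.val heq
    rw [MulAut.conjNormal_apply] at this
    exact mul_inv_eq_iff_eq_mul.1 this
  exact ⟨(((QuotientGroup.quotientMulEquivOfEq hker.symm).trans
    (QuotientGroup.quotientKerEquivRange f)).trans (MulEquiv.subgroupCongr hrange)).symm⟩

end Cfsg.Agent.Triality3T
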