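import Cfsg.Agent.Triality3T.Outer
import Cfsg.Agent.Triality3T.Orth3
import Cfsg.Agent.GraphForms.Classify
import Cfsg.Agent.S0247
import Cfsg.Agent.S0254
import Cfsg.Agent.S0283
import Cfsg.Agent.S2119
import Cfsg.Agent.ThreeTrans.Y332.Iso
import Cfsg.Agent.ThreeTrans.Y342.Iso
import Cfsg.Agent.ThreeTrans.Y542.Iso
import Cfsg.Agent.CosetCert.Fi22Order.Main
import Cfsg.Agent.CosetCert.Fi23Order.Main
import Cfsg.Agent.Fi24Out.Out
import Cfsg.Agent.Fi24.Simple

/-!
# The possible classes inside a coset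
-/

set_option autoImplicit false

open Cfsg Module QuadraticMap
open Cfsg.Agent.Classical.Quad
open Cfsg.Agent.FischerThm (Hyp SymAt SpAt PSUAt OPlusAt OMinusAt ReflAt Cases Known)

namespace Cfsg.Agent.Triality3T

universe u v

variable {C : Type u} [Group C] [Finite C] {E : Set C}

theorem alt_commutator {n : ℕ} (hn : 5 ≤ n) :
    commutator (Equiv.Perm (Fin n)) = alternatingGroup (Fin n) :=
  alternatingGroup.commutator_perm_eq (by simpa using hn)

theorem sym_derived {n : ℕ} (hn : 5 ≤ n) (h : SymAt E n) :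
    Nonempty (↥(commutator C) ≃* ↥(alternatingGroup (Fin n))) := by
  obtain ⟨e, -⟩ := h
  exact ⟨(commutatorEquiv e).trans (MulEquiv.subgroupCongr (alt_commutator hn))⟩

theorem outOK_alt {n : ℕ} (hn : 5 ≤ n) : OutOK ↥(alternatingGroup (Fin n)) := by
  rcases eq_or_ne n 6 with rfl | h6
  · have := Fact.mk Nat.prime_three
    letI : Fintype (GaloisField 3 2) := Fintype.ofFinite _
    have hK : Fintype.card (GaloisField 3 2) = 9 := by
      rw [← Nat.card_eq_fintype_card, GaloisField.card 3 2 two_ne_zero]; norm_num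
    obtain ⟨e⟩ := Agent.S0254.result hK
    classical
    exact OutOK.congr e.symm (outOK_psl 2 (GaloisField 3 2) 3 2 (by norm_num) dvd_rfl
      (by rw [hK]; norm_num) le_rfl (by norm_num) (by rw [hK]; norm_num))
  · have h : Nat.card (MulAut ↥(alternatingGroup (Fin n))) = Nat.card (Equiv.Perm (Fin n)) :=
      (Nat.card_eq_of_bijective _ (Agent.S2119.result n (by omega) h6)).symm
    have : Nontrivial (Fin n) := Fin.nontrivial_iff_two_le.2 (by omega)
    refine ⟨2, by norm_num, ?_⟩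
    rw [h, ← (alternatingGroup (Fin n)).card_mul_index, alternatingGroup.index_eq_two, mul_comm]

theorem outOK_sp_two {h : SpAt E 2} : OutOK ↥(commutator C) := by
  obtain ⟨e, -⟩ := h
  obtain ⟨e'⟩ := Agent.S0247.result (F := ZMod 2) (by simp)
  exact OutOK.congr ((commutatorEquiv (e.trans e')).trans
    (MulEquiv.subgroupCongr (alt_commutator (n := 6) (by norm_num)))) (outOK_alt (by norm_num))

theorem sp_perfect {m : ℕ} (hm : 3 ≤ m) (h : SpAt E m) : commutator C = ⊤ := by
  obtain ⟨e, -⟩ := h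
  have hp := Agent.Classical.commutator_symplectic (F := ZMod 2) (m := m) (Or.inl hm)
  refine Subgroup.map_injective (f := e.toMonoidHom) e.injective ?_
  rw [commutator_def, Subgroup.map_commutator, Subgroup.map_top_of_surjective _ e.surjective]
  exact hp

theorem psu_simple {n : ℕ} (hn : 4 ≤ n) (h : PSUAt E n) : IsSimpleGroup C := by
  obtain ⟨F, iF, iT, hF, e, -⟩ := h
  have := Agent.S0283.result (F := F) (q := 2) (by rw [hF]; norm_num) n (by omega) (by omega)
  exact MulEquiv.isSimpleGroup e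

theorem oplus_derived {m : ℕ} (hm : 3 ≤ m) (h : OPlusAt E m) :
    Nonempty (↥(commutator C) ≃* Cfsg.POmega (ZMod 2) (Cfsg.quadFormPlus m (ZMod 2))) := by
  obtain ⟨e, -⟩ := h
  have hQ : (polarBilin (AutPOmega.qPlus (ZMod 2) m)).Nondegenerate := GraphForms.nondeg_qPlus
  have h1 : Nat.card (Subgroup.center (Cfsg.Omega (ZMod 2) (Cfsg.quadFormPlus m (ZMod 2)))) = 1 :=
    (card_center_omega (Q := AutPOmega.qPlus (ZMod 2) m) hQ (by simp; omega)).2 (Or.inr (by decide))
  exact ⟨(commutatorEquiv e).trans (QuotientGroup.quotientBot.symm.trans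
    (QuotientGroup.quotientMulEquivOfEq (Subgroup.card_eq_one.1 h1).symm))⟩

theorem aniso_two : ∀ z₁ z₂ : ZMod 2, z₁ ^ 2 + 1 * z₁ * z₂ + 1 * z₂ ^ 2 = 0 → z₁ = 0 ∧ z₂ = 0 := by
  decide

theorem ominus_derived {m : ℕ} (hm : 2 ≤ m) (h : OMinusAt E m) :
    Nonempty (↥(commutator C) ≃* Cfsg.POmega (ZMod 2) (Cfsg.quadFormMinus m (ZMod 2) 1 1)) := by
  obtain ⟨e, -⟩ := h
  have hQ : (polarBilin (AutPOmega.qMinus (ZMod 2) m 1 1)).Nondegenerate :=
    GraphForms.nondeg_qMinus aniso_two
  have h1 : Nat.card (Subgroup.center (Cfsg.Omega (ZMod 2) (Cfsg.quadFormMinus m (ZMod 2) 1 1))) = 1 :=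
    (card_center_omega (Q := AutPOmega.qMinus (ZMod 2) m 1 1) hQ (by simp; omega)).2
      (Or.inr (by decide))
  exact ⟨(commutatorEquiv e).trans (QuotientGroup.quotientBot.symm.trans
    (QuotientGroup.quotientMulEquivOfEq (Subgroup.card_eq_one.1 h1).symm))⟩

theorem m22_simple (H : Hyp E) (h : IsOfTypeM22 C E) : IsSimpleGroup C := by
  obtain ⟨e, -⟩ := ThreeTrans.Y332.exists_iso H.group H.cls h
  have := CosetCert.Fi22Order.order_and_simple.1
  exact MulEquiv.isSimpleGroup e.symm

theorem m23_simple (H : Hyp E) (h : IsOfTypeM23 C E) : IsSimpleGroup C := by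
  obtain ⟨e, -⟩ := ThreeTrans.Y342.exists_iso H.group H.primitive h
  have := CosetCert.Fi23Order.order_and_simple.1
  exact MulEquiv.isSimpleGroup e.symm

theorem m24_outOK (H : Hyp E) (h : IsOfTypeM24 C E) : OutOK ↥(commutator C) := by
  obtain ⟨e, -⟩ := ThreeTrans.Y542.exists_iso H.group H.primitive h
  refine OutOK.congr (commutatorEquiv e).symm ?_
  have hs : IsSimpleGroup Cfsg.Spor.Fi24' := Fi24.isFi24'.1
  have : Finite Cfsg.Spor.Fi24' := Finite.of_equiv _ (commutatorEquiv e).symm.toEquiv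
  have hinj : Function.Injective (MulAut.conj : Cfsg.Spor.Fi24' →* MulAut Cfsg.Spor.Fi24') := by
    refine (MonoidHom.ker_eq_bot_iff _).1 ?_
    refine (IsSimpleGroup.eq_bot_or_eq_top_of_normal _ inferInstance).resolve_right fun htop => ?_
    have hcomm : ∀ a b : Cfsg.Spor.Fi24', a * b = b * a := fun a b => by
      have := DFunLike.congr_fun (MonoidHom.mem_ker.1 (htop ▸ Subgroup.mem_top a : a ∈ _)) b
      rw [MulAut.conj_apply, MulAut.one_apply] at this
      exact mul_inv_eq_iff_eq_mul.1 this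
    have hsol : Group.IsSolvable C := by
      rw [Group.isSolvable_iff_subgroup_quotient (commutator C)]
      refine ⟨Group.isSolvable_of_comm fun a b => (commutatorEquiv e).symm.injective (by
        rw [map_mul, map_mul]; exact hcomm _ _), Group.isSolvable_of_comm fun a b =>
        (Subgroup.Normal.quotient_commutative_iff_commutator_le.mpr le_rfl).is_comm.comm a b⟩
    exact H.not_solvable hsol
  refine ⟨2, by norm_num, ?_⟩
  rw [Subgroup.card_eq_card_quotient_mul_card_subgroup (Cfsg.Inn Cfsg.Spor.Fi24'),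
    Agent.Fi24Out.card_out, ← Nat.card_congr (MonoidHom.ofInjective hinj).toEquiv]

theorem refl_derived_of {n : ℕ} (hn : 5 ≤ n) (h : ReflAt E n) :
    ∃ Q : QuadraticForm (ZMod 3) (Fin n → ZMod 3), (polarBilin Q).Nondegenerate ∧
      Nonempty (↥(commutator C) ≃* Cfsg.POmega (ZMod 3) ⇑Q) := by
  obtain ⟨Q, hQ, c, hc, e, -⟩ := h
  obtain ⟨e'⟩ := refl_derived hQ hn hc
  exact ⟨Q, hQ, ⟨(commutatorEquiv e).trans e'⟩⟩

/-- The possibilities. -/
theorem classify (K : Cases.{u}) (H : Hyp E) :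
    commutator C = ⊤ ∨ OutOK ↥(commutator C) ∨
      Nonempty (↥(commutator C) ≃* Cfsg.POmega (ZMod 2) (Cfsg.quadFormPlus 4 (ZMod 2))) ∨
      Nonempty (↥(commutator C) ≃* Cfsg.POmega (ZMod 3) (Cfsg.quadFormPlus 4 (ZMod 3))) := by
  have hsimp : IsSimpleGroup C → commutator C = ⊤ := fun hs => by
    rcases IsSimpleGroup.eq_bot_or_eq_top_of_normal (commutator C) inferInstance with e | e
    · exfalso
      refine H.not_solvable (Group.isSolvable_of_comm fun a b => ?_)
      refine commutatorElement_eq_one_iff_mul_comm.1 ?_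
      have := Subgroup.commutator_mem_commutator (Subgroup.mem_top a) (Subgroup.mem_top b)
      rwa [← commutator_def, e, Subgroup.mem_bot] at this
    · exact e
  have hrefl : ∀ {n}, 5 ≤ n → ReflAt E n → OutOK ↥(commutator C) ∨
      Nonempty (↥(commutator C) ≃* Cfsg.POmega (ZMod 3) (Cfsg.quadFormPlus 4 (ZMod 3))) := by
    intro n hn h
    obtain ⟨Q, hQ, ⟨e⟩⟩ := refl_derived_of hn h
    rcases outOK_pomega hQ hn with h' | h'
    · exact Or.inl (OutOK.congr e h')
    · exact Or.inr (h'.map e.trans)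
  have hsym : ∀ {n}, 5 ≤ n → SymAt E n → OutOK ↥(commutator C) := fun hn h => by
    obtain ⟨e⟩ := sym_derived hn h
    exact OutOK.congr e (outOK_alt hn)
  rcases FischerThm.known K H with (h | ⟨m, hm, h⟩ | ⟨n, hn, h⟩) |
      (⟨n, hn, h⟩ | ⟨m, hm, h⟩ | ⟨m, hm, h⟩ | ⟨n, hn, h⟩ | h | h | h)
  · exact Or.inr (Or.inl (hsym le_rfl h))
  · rcases eq_or_lt_of_le hm with rfl | hm'
    · exact Or.inr (Or.inl (outOK_sp_two (h := h)))
    · exact Or.inl (sp_perfect hm' h)
  · exact Or.inl (hsimp (psu_simple hn h))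
  · exact Or.inr (Or.inl (hsym (by omega) h))
  · rcases (show m = 3 ∨ m = 4 ∨ 5 ≤ m by omega) with rfl | rfl | hm'
    · exact Or.inr (Or.inl (hsym (by norm_num) (K.oplusThreeSym H h)))
    · exact Or.inr (Or.inr (Or.inl (oplus_derived hm h)))
    · obtain ⟨e⟩ := oplus_derived hm h
      refine Or.inr (Or.inl (OutOK.congr e ⟨_, ?_, Agent.S0817.result (F := ZMod 2) 2 1 le_rfl
        (by norm_num) m (by omega)⟩))
      rw [if_neg (by omega : ¬ m = 4)]
      norm_num
  · rcases eq_or_lt_of_le hm with rfl | hm'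
    · rcases hrefl le_rfl (K.ominusTwoRefl H h) with h' | h'
      · exact Or.inr (Or.inl h')
      · exact Or.inr (Or.inr (Or.inr h'))
    · obtain ⟨e⟩ := ominus_derived hm h
      have hc := Agent.S0818.result (F := ZMod 2) 2 1 le_rfl (by norm_num) (m + 1) (by omega) 1 1
        aniso_two
      exact Or.inr (Or.inl (OutOK.congr e ⟨_, by norm_num, hc⟩))
  · rcases hrefl hn h with h' | h'
    · exact Or.inr (Or.inl h')
    · exact Or.inr (Or.inr (Or.inr h'))
  · exact Or.inl (hsimp (m22_simple H h))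
  · exact Or.inl (hsimp (m23_simple H h))
  · exact Or.inr (Or.inl (m24_outOK H h))

end Cfsg.Agent.Triality3T
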