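import Cfsg.Agent.Triality3T.Setup

/-!
# The outer automorphisms induced by a disconnected class
-/

set_option autoImplicit false
set_option linter.unusedSectionVars false

open Cfsg
open scoped commutatorElement Pointwise

namespace Cfsg.Agent.Triality3T

universe u v w

/-- An isomorphism restricts to the derived groups. -/
noncomputable def commutatorEquiv {A : Type v} {B : Type w} [Group A] [Group B] (e : A ≃* B) :
    ↥(commutator A) ≃* ↥(commutator B) :=
  (e.subgroupMap (commutator A)).trans (MulEquiv.subgroupCongr (by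
    rw [commutator_def, Subgroup.map_commutator, Subgroup.map_top_of_surjective _ e.surjective]
    rfl))

theorem card_mulAut_congr {A : Type v} {B : Type w} [Group A] [Group B] (e : A ≃* B) :
    Nat.card (MulAut A) = Nat.card (MulAut B) := Nat.card_congr (MulAut.congr e).toEquiv

variable {G : Type u} [Group G] [Finite G] {D : Set G} {L : Subgroup G} (h : Data D L) {d : G}
  (hd : d ∈ D)

include h hd

namespace Data

/-- The group embeds into the automorphisms of `L`. -/
theorem index_dvd {X : Type v} [Group X] (e : ↥(commutator ↥(coset L d)) ≃* X) {k : ℕ}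
    (hk : Nat.card (MulAut X) = k * Nat.card X) : L.index ∣ k := by
  haveI := h.normal
  obtain ⟨e0⟩ := h.derived_equiv hd
  have eX : ↥L ≃* X := e0.symm.trans e
  have hinj : Function.Injective (MulAut.conjNormal : G →* MulAut ↥L) := by
    rw [injective_iff_map_eq_one]
    intro g hg
    have hc : g ∈ Subgroup.centralizer (L : Set G) := Subgroup.mem_centralizer_iff.2 fun l hl => by
      have := congrArg Subtype.val (DFunLike.congr_fun hg ⟨l, hl⟩)
      rw [MulAut.conjNormal_apply, MulAut.one_apply] at this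
      exact (mul_inv_eq_iff_eq_mul.1 this).symm
    rwa [h.cent, Subgroup.mem_bot] at hc
  have hd' := Subgroup.card_dvd_of_injective _ hinj
  rw [card_mulAut_congr eX, hk, ← Subgroup.index_mul_card L, Nat.card_congr eX.toEquiv] at hd'
  have : Finite X := Finite.of_equiv _ eX.toEquiv
  exact Nat.dvd_of_mul_dvd_mul_right Nat.card_pos hd'

/-- No group without outer automorphisms of order three occurs. -/
theorem false_of_aut {X : Type v} [Group X] (e : ↥(commutator ↥(coset L d)) ≃* X) {k : ℕ}
    (hk : Nat.card (MulAut X) = k * Nat.card X) (h3 : ¬ 3 ∣ k) : False :=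
  h3 ((h.three_dvd_index hd).trans (h.index_dvd hd e hk))

/-- The coset group is not perfect. -/
theorem false_of_perfect (hp : commutator ↥(coset L d) = ⊤) : False := by
  have hdC : d ∈ coset L d := Subgroup.mem_sup_right (Subgroup.mem_zpowers d)
  have hm : (⟨d, hdC⟩ : ↥(coset L d)) ∈ L.subgroupOf (coset L d) := by
    rw [← h.commutator_coset hd, hp]; trivial
  exact h.notMem d hd hm

/-- With an outer automorphism group of order dividing `24` the quotient is symmetric of degree
three. -/
theorem quot_sym [L.Normal] {X : Type v} [Group X] (e : ↥(commutator ↥(coset L d)) ≃* X) {k : ℕ}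
    (hk : Nat.card (MulAut X) = k * Nat.card X) (hk24 : k ∣ 24) :
    Nonempty (G ⧸ L ≃* Equiv.Perm (Fin 3)) := by
  classical
  have hidx : L.index ∣ 24 := (h.index_dvd hd e hk).trans hk24
  have hcls := h.cls
  have hT := hcls.1
  set π := QuotientGroup.mk' L with hπ
  set T := π '' D with hTdef
  have hmk : ∀ a ∈ D, ∀ b ∈ D, π a = π b ∨ orderOf (π a * π b) = 3 := by
    intro a ha b hb
    by_cases hab : a * b ∈ L
    · refine Or.inl ?_
      have h1 : π a * π b = 1 := by rw [← map_mul]; exact (QuotientGroup.eq_one_iff _).2 hab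
      rw [eq_inv_of_mul_eq_one_left h1, ← map_inv, ThreeTrans.inv_eq hT hb]
    · exact Or.inr (by rw [← map_mul]; exact h.orderOf_mk ha hb hab)
  have hord : ∀ a ∈ D, orderOf (π a) = 2 := fun a ha => by
    have := Fact.mk Nat.prime_two
    refine orderOf_eq_prime ?_ fun e' => h.notMem a ha ((QuotientGroup.eq_one_iff a).1 e')
    rw [← map_pow, sq, ThreeTrans.mul_self hT ha, map_one]
  have hgrp : IsThreeTranspositionGroup T := by
    refine ⟨⟨?_, ?_⟩, ?_, ?_⟩
    · rintro _ ⟨a, ha, rfl⟩; exact hord a ha
    · rintro _ ⟨a, ha, rfl⟩ _ ⟨b, hb, rfl⟩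
      rcases hT.2 a ha b hb with e' | e'
      · exact Or.inl (by rw [← map_mul, ← map_pow, e', map_one])
      · exact Or.inr (by rw [← map_mul, ← map_pow, e', map_one])
    · rintro g _ ⟨a, ha, rfl⟩
      obtain ⟨g, rfl⟩ := QuotientGroup.mk'_surjective L g
      exact ⟨g * a * g⁻¹, ThreeTrans.class_conj hcls g a ha, by rw [map_mul, map_mul, map_inv]⟩
    · rw [hTdef, ← MonoidHom.map_closure, hcls.2.2,
        Subgroup.map_top_of_surjective _ (QuotientGroup.mk'_surjective L)]
  have hpair : ∀ x ∈ T, ∀ y ∈ T, x ≠ y → ¬ Commute x y := by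
    rintro _ ⟨a, ha, rfl⟩ _ ⟨b, hb, rfl⟩ hne hc
    have h2 : (π a * π b) ^ 2 = 1 := by
      rw [hc.mul_pow, sq, sq, ← map_mul, ← map_mul, ThreeTrans.mul_self hT ha,
        ThreeTrans.mul_self hT hb, map_one, one_mul]
    have := orderOf_dvd_of_pow_eq_one h2
    rw [(hmk a ha b hb).resolve_left hne] at this
    norm_num at this
  have hall : ∀ x ∈ T, ∀ y ∈ T, x ≠ y → x * y * x ≠ x ∧ x * y * x ≠ y := by
    intro x hx y hy hne
    refine ⟨fun e' => hne ?_, fun e' => hpair x hx y hy hne ?_⟩
    · calc x = x * (x * y * x) * x := by rw [e', ThreeTrans.mul_self hgrp.1 hx, one_mul]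
        _ = x * x * y * (x * x) := by group
        _ = y := by rw [ThreeTrans.mul_self hgrp.1 hx, one_mul, mul_one]
    · calc x * y = x * y * (x * x) := by rw [ThreeTrans.mul_self hgrp.1 hx, mul_one]
        _ = x * y * x * x := by group
        _ = y * x := by rw [e']
  -- the class has three members
  obtain ⟨b, hb, hab⟩ := h.twoCosets d hd
  have hx : π d ∈ T := ⟨d, hd, rfl⟩
  have hy : π b ∈ T := ⟨b, hb, rfl⟩
  have hxy : π d ≠ π b := fun e' => hab <| by
    rw [← QuotientGroup.eq_one_iff]
    show π (d * b) = 1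
    rw [map_mul, ← e', ← map_mul, ThreeTrans.mul_self hT hd, map_one]
  have hxyx := ThreeTrans.conj_mem hgrp.1 hgrp.2.1 hx hy
  have hthree : 3 ≤ T.ncard := by
    rw [← Set.ncard_eq_three.2 ⟨π d, π b, π d * π b * π d, hxy, (hall _ hx _ hy hxy).1.symm,
      (hall _ hx _ hy hxy).2.symm, rfl⟩]
    exact Set.ncard_le_ncard (by rintro z (rfl | rfl | rfl) <;> assumption) (Set.toFinite _)
  have hfix : ∀ q : G ⧸ L, q ∈ T → Commute (π d) q → q = π d := fun q hq hc => by
    by_contra hne
    exact hpair _ hx q hq (fun e' => hne e'.symm) hc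
  let act : ↥T → ↥T := fun q => ⟨π d * q * π d, ThreeTrans.conj_mem hgrp.1 hgrp.2.1 hx q.2⟩
  have hodd : ¬ 2 ∣ T.ncard := by
    intro h2
    have := Fact.mk Nat.prime_two
    have : Fintype ↥T := Fintype.ofFinite _
    let f : Function.End ↥T := act
    have hf : f ^ 2 ^ 1 = 1 := by
      funext q
      show act (act q) = q
      refine Subtype.ext ?_
      show π d * (π d * q * π d) * π d = q
      rw [show π d * (π d * (q : G ⧸ L) * π d) * π d = π d * π d * q * (π d * π d) by group,
        ThreeTrans.mul_self hgrp.1 hx, one_mul, mul_one]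
    have hmod := Equiv.Perm.card_fixedPoints_modEq hf
    have hone : Fintype.card f.fixedPoints = 1 := by
      rw [Fintype.card_eq_one_iff]
      refine ⟨⟨⟨π d, hx⟩, Subtype.ext ?_⟩, fun ⟨q, hq⟩ => Subtype.ext (Subtype.ext ?_)⟩
      · show π d * π d * π d = π d
        rw [ThreeTrans.mul_self hgrp.1 hx, one_mul]
      · refine hfix q q.2 ?_
        have e' : π d * q * π d = q := congrArg Subtype.val hq
        calc π d * (q : G ⧸ L) = π d * q * π d * π d := by
              rw [mul_assoc _ (π d) (π d), ThreeTrans.mul_self hgrp.1 hx, mul_one]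
          _ = q * π d := by rw [e']
    rw [hone, ← Nat.card_eq_fintype_card, Nat.card_coe_set_eq] at hmod
    have := hmod.symm.trans (Nat.modEq_zero_iff_dvd.2 h2)
    exact absurd this (by decide)
  have hconjT : ∀ g, g ∈ T → ∃ c : G ⧸ L, c * π d * c⁻¹ = g := by
    rintro _ ⟨a, ha, rfl⟩
    obtain ⟨g, hg⟩ := ThreeTrans.class_isConj hcls hd ha
    exact ⟨π g, by rw [← map_inv, ← map_mul, ← map_mul, hg]⟩
  have hsize : T.ncard * Nat.card (Subgroup.centralizer ({π d} : Set (G ⧸ L))) = L.index := by
    rw [Subgroup.index_eq_card, ← Subgroup.index_mul_card (Subgroup.centralizer ({π d} : Set (G ⧸ L))),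
      ← Nat.card_coe_set_eq]
    congr 1
    rw [Subgroup.index_eq_card]
    refine (Nat.card_eq_of_bijective (fun q => Quotient.liftOn' q
      (fun c => (⟨c * π d * c⁻¹, hgrp.2.1 c _ hx⟩ : ↥T)) ?_) ⟨?_, ?_⟩).symm
    · intro c c' hcc
      rw [QuotientGroup.leftRel_apply, Subgroup.mem_centralizer_singleton_iff] at hcc
      refine Subtype.ext ?_
      calc c * π d * c⁻¹ = c * (π d * (c⁻¹ * c')) * c'⁻¹ := by group
        _ = c * (c⁻¹ * c' * π d) * c'⁻¹ := by rw [hcc]
        _ = c' * π d * c'⁻¹ := by group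
    · intro q q'
      induction q using Quotient.inductionOn' with | _ c => ?_
      induction q' using Quotient.inductionOn' with | _ c' => ?_
      intro e'
      have e'' : c * π d * c⁻¹ = c' * π d * c'⁻¹ := congrArg Subtype.val e'
      refine Quotient.sound' ?_
      rw [QuotientGroup.leftRel_apply, Subgroup.mem_centralizer_singleton_iff]
      calc c⁻¹ * c' * π d = c⁻¹ * (c' * π d * c'⁻¹) * c' := by group
        _ = c⁻¹ * (c * π d * c⁻¹) * c' := by rw [e'']
        _ = π d * (c⁻¹ * c') := by group
    · rintro ⟨q, hq⟩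
      obtain ⟨c, hc⟩ := hconjT q hq
      exact ⟨Quotient.mk'' c, Subtype.ext hc⟩
  have h2C : 2 ∣ Nat.card (Subgroup.centralizer ({π d} : Set (G ⧸ L))) := by
    rw [← hord d hd]
    exact (Subgroup.centralizer ({π d} : Set (G ⧸ L))).orderOf_dvd_natCard
      (Subgroup.mem_centralizer_singleton_iff.2 rfl)
  have hcard : T.ncard = 3 := by
    have h24 : T.ncard ∣ 24 := dvd_trans ⟨_, hsize.symm⟩ hidx
    have hle : T.ncard ≤ 24 := Nat.le_of_dvd (by norm_num) h24
    interval_cases hn : T.ncard <;> omega
  have hZ : Subgroup.center (G ⧸ L) = ⊥ := by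
    rw [eq_bot_iff]
    intro q hq
    rw [Subgroup.mem_bot]
    have hclos : ∀ y ∈ T, Commute q y := fun y _ => (Subgroup.mem_center_iff.1 hq y).symm
    by_contra hq1
    have hC : Nat.card (Subgroup.centralizer ({π d} : Set (G ⧸ L))) = 2 := by
      have h6 : Nat.card (G ⧸ L) ≤ 6 := by
        set P := Subgroup.zpowers (π d * π b) with hP
        have hinvol : ∀ z ∈ T, z * (π d * π b) * z⁻¹ ∈ P → z ∈ Subgroup.normalizer (P : Set (G ⧸ L)) := by
          intro z hz hzP
          have hmem : ∀ w ∈ P, z * w * z⁻¹ ∈ P := by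
            intro w hw
            obtain ⟨n, rfl⟩ := Subgroup.mem_zpowers_iff.1 hw
            rw [← conj_zpow]
            exact zpow_mem hzP n
          refine Subgroup.mem_normalizer_iff.2 fun w => ⟨hmem w, fun hw => ?_⟩
          have := hmem _ hw
          rwa [ThreeTrans.inv_eq hgrp.1 hz, show z * (z * w * z) * z = z * z * w * (z * z) by group,
            ThreeTrans.mul_self hgrp.1 hz, one_mul, mul_one] at this
        have hinv : (π d * π b)⁻¹ = π b * π d := by
          rw [mul_inv_rev, ThreeTrans.inv_eq hgrp.1 hx, ThreeTrans.inv_eq hgrp.1 hy]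
        have hnx : π d ∈ Subgroup.normalizer (P : Set (G ⧸ L)) := hinvol _ hx (by
          rw [ThreeTrans.inv_eq hgrp.1 hx, ← mul_assoc, ThreeTrans.mul_self hgrp.1 hx, one_mul, ← hinv]
          exact inv_mem (Subgroup.mem_zpowers _))
        have hny : π b ∈ Subgroup.normalizer (P : Set (G ⧸ L)) := hinvol _ hy (by
          rw [ThreeTrans.inv_eq hgrp.1 hy, mul_assoc, mul_assoc, ThreeTrans.mul_self hgrp.1 hy, mul_one,
            ← hinv]
          exact inv_mem (Subgroup.mem_zpowers _))
        have hTsub : ∀ z ∈ T, z = π d ∨ z = π b ∨ z = π d * π b * π d := by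
          have he : ({π d, π b, π d * π b * π d} : Set (G ⧸ L)) = T :=
            Set.eq_of_subset_of_ncard_le (by rintro z (rfl | rfl | rfl) <;> assumption)
              (by rw [hcard, Set.ncard_eq_three.2 ⟨π d, π b, π d * π b * π d, hxy,
                (hall _ hx _ hy hxy).1.symm, (hall _ hx _ hy hxy).2.symm, rfl⟩]) (Set.toFinite _)
          intro z hz
          rwa [← he] at hz
        have hnT : P.Normal := by
          refine Subgroup.normalizer_eq_top_iff.1 (top_le_iff.1 ?_)
          rw [← hgrp.2.2, Subgroup.closure_le]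
          intro z hz
          rcases hTsub z hz with rfl | rfl | rfl
          exacts [hnx, hny, mul_mem (mul_mem hnx hny) hnx]
        have htop : P ⊔ Subgroup.zpowers (π d) = ⊤ := by
          rw [eq_top_iff, ← hgrp.2.2, Subgroup.closure_le]
          have m1 : π d ∈ P ⊔ Subgroup.zpowers (π d) :=
            Subgroup.mem_sup_right (Subgroup.mem_zpowers _)
          have m2 : π d * π b ∈ P ⊔ Subgroup.zpowers (π d) :=
            Subgroup.mem_sup_left (Subgroup.mem_zpowers _)
          have m3 : π b ∈ P ⊔ Subgroup.zpowers (π d) := by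
            have := mul_mem m1 m2
            rwa [ThreeTrans.mul_self_mul hgrp.1 hx] at this
          intro z hz
          rcases hTsub z hz with rfl | rfl | rfl
          exacts [m1, m3, mul_mem m2 m1]
        have hset : ((⊤ : Subgroup (G ⧸ L)) : Set (G ⧸ L)) =
            (P : Set (G ⧸ L)) * (Subgroup.zpowers (π d) : Set (G ⧸ L)) := by
          rw [← htop, Subgroup.normal_mul]
        have hsur : Function.Surjective
            fun p : ↥P × ↥(Subgroup.zpowers (π d)) => (p.1 : G ⧸ L) * (p.2 : G ⧸ L) := by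
          intro z
          obtain ⟨p, hp, k, hk, rfl⟩ := Set.mem_mul.1 (hset.le (Subgroup.mem_top z))
          exact ⟨(⟨p, hp⟩, ⟨k, hk⟩), rfl⟩
        refine (Nat.card_le_card_of_surjective _ hsur).trans ?_
        rw [Nat.card_prod, hP, Nat.card_zpowers, Nat.card_zpowers, hord d hd,
          ((hmk d hd b hb).resolve_left hxy)]
      rw [← Subgroup.index_eq_card, ← hsize, hcard] at h6
      have hpos : 0 < Nat.card (Subgroup.centralizer ({π d} : Set (G ⧸ L))) := Nat.card_pos
      omega
    have hCle : Subgroup.zpowers (π d) = Subgroup.centralizer ({π d} : Set (G ⧸ L)) := by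
      refine Subgroup.eq_of_le_of_card_ge ?_ ?_
      · rw [Subgroup.zpowers_le]; exact Subgroup.mem_centralizer_singleton_iff.2 rfl
      · rw [hC, Nat.card_zpowers, hord d hd]
    have hqC : q ∈ Subgroup.zpowers (π d) := by
      rw [hCle]; exact Subgroup.mem_centralizer_singleton_iff.2 (hclos _ hx)
    have hq' : q = π d := by
      have h2 : Nat.card ↥(Subgroup.zpowers (π d)) = 2 := by rw [Nat.card_zpowers, hord d hd]
      obtain ⟨y, -, hy⟩ := (Nat.card_eq_two_iff' (1 : ↥(Subgroup.zpowers (π d)))).1 h2
      exact congrArg Subtype.val ((hy ⟨q, hqC⟩ fun e' => hq1 (congrArg Subtype.val e')).trans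
        (hy ⟨π d, Subgroup.mem_zpowers _⟩ fun e' => by
          have := congrArg Subtype.val e'
          exact h.notMem d hd ((QuotientGroup.eq_one_iff d).1 this)).symm)
    exact hpair _ hx _ hy hxy (hq' ▸ hclos _ hy)
  obtain ⟨eS, -⟩ := FischerThm.symAt_three_of_card hgrp hZ hall hcard
  exact ⟨eS⟩

end Data

end Cfsg.Agent.Triality3T
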