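import Cfsg.Agent.FischerThm.Induction
import Cfsg.Agent.FischerThm.Glue
import Cfsg.Agent.ThreeTrans.Primitive

/-!
# A disconnected commuting graph

The generalised Fitting subgroup `L` is simple of index at least three, and the members congruent to a
given one modulo `L` form a class satisfying the hypothesis of the induction in the group they
generate, whose derived group is `L`.
-/

set_option autoImplicit false

open Cfsg
open scoped commutatorElement

namespace Cfsg.Agent.Triality3T

universe u

variable {G : Type u} [Group G] [Finite G] {D : Set G}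

/-- The data of a disconnected class. -/
structure Data (D : Set G) (L : Subgroup G) : Prop where
  cls : IsThreeTranspositionClass D
  normal : L.Normal
  simple : IsSimpleGroup ↥L
  nonab : ∃ x y : ↥L, x * y ≠ y * x
  cent : Subgroup.centralizer (L : Set G) = ⊥
  notMem : ∀ a ∈ D, a ∉ L
  commMem : ∀ a ∈ D, ∀ b ∈ D, Commute a b → a * b ∈ L
  twoCosets : ∀ a ∈ D, ∃ b ∈ D, a * b ∉ L
  fstar : generalizedFittingSubgroup G = L

theorem exists_data (hD : IsThreeTranspositionClass D) (hZ : Subgroup.center G = ⊥)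
    (h2 : pCore 2 G = ⊥) (h3 : pCore 3 G = ⊥) (hdisc : ¬ (commutingGraph D).Connected) :
    ∃ L : Subgroup G, Data D L := by
  have hne : D.Nonempty := by obtain ⟨a, ha, -⟩ := id hD.2.1; exact ⟨a, ha⟩
  have hD2 : ∃ a ∈ D, ∃ b ∈ D, a ≠ b := by
    obtain ⟨a, ha⟩ := hne
    by_contra hcon
    push Not at hcon
    have hz : a ∈ Subgroup.center G :=
      ThreeTrans.mem_center_of_commute hD.2.2 fun e he => by rw [hcon a ha e he]
    rw [hZ, Subgroup.mem_bot] at hz
    exact ThreeTrans.ne_one hD.1 ha hz
  have h2' : pCore 2 G ≤ Subgroup.center G := h2.le.trans bot_le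
  have h3' : pCore 3 G ≤ Subgroup.center G := h3.le.trans bot_le
  obtain ⟨L, hLn, hL, -, hF⟩ := ThreeTrans.exists_quasisimple hD hD2 h2' h3'
  rw [hZ, sup_bot_eq] at hF
  haveI := hLn
  have hcent : Subgroup.centralizer (L : Set G) = ⊥ := by
    rw [eq_bot_iff]
    intro x hx
    have hxF : x ∈ L := hF.le (Layer.centralizer_generalizedFitting_le (by rwa [hF]))
    have hM : IsMulCommutative ↥(L ⊓ Subgroup.centralizer (L : Set G)) := ⟨⟨fun u v =>
      Subtype.ext (Subgroup.mem_centralizer_iff.1 v.2.2 u u.2.1)⟩⟩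
    have hle := (Core.le_fittingSubgroup_of_isMulCommutative
      (N := L ⊓ Subgroup.centralizer (L : Set G))).trans (ThreeTrans.fitting_le_center hD h2' h3')
    rw [hZ] at hle
    exact hle ⟨hxF, hx⟩
  have hcz : Subgroup.center ↥L = ⊥ := by
    rw [eq_bot_iff]
    intro x hx
    have : (x : G) ∈ Subgroup.centralizer (L : Set G) := Subgroup.mem_centralizer_iff.2 fun y hy =>
      congrArg Subtype.val (Subgroup.mem_center_iff.1 hx ⟨y, hy⟩)
    rw [hcent, Subgroup.mem_bot] at this
    exact Subgroup.mem_bot.2 (Subtype.ext this)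
  have hsimple : IsSimpleGroup ↥L := by
    have := hL.2
    exact MulEquiv.isSimpleGroup
      ((QuotientGroup.quotientBot (G := ↥L)).symm.trans (QuotientGroup.quotientMulEquivOfEq hcz.symm))
  have hnonab : ∃ x y : ↥L, x * y ≠ y * x := by
    by_contra hcon
    push Not at hcon
    exact Layer.qs_not_isSolvable hL (Group.isSolvable_of_comm hcon)
  have hidx : ¬ L.index ≤ 2 := fun hi => hdisc <| by
    rw [ThreeTrans.connected_iff_commBlock hne]
    intro a ha b hb
    have hsub : {z | z ∈ D ∧ z ∈ ThreeTrans.commBlock D a} = D :=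
      ThreeTrans.commute_closed_eq hD (ThreeTrans.perfect_derived hL hi) (fun z hz => hz.1)
        ⟨a, ha, ThreeTrans.mem_commBlock_self a⟩ fun s hs e he hse =>
          ⟨he, (ThreeTrans.commBlock_eq_of_mem hs.2).le
            ((ThreeTrans.commBlock_eq_of_commute hs.1 he hse).le (ThreeTrans.mem_commBlock_self e))⟩
    exact (hsub.ge hb).2
  have hnot : ∀ a ∈ D, a ∉ L := fun a ha haL => hidx <| by
    have hsub : D ⊆ (L : Set G) := fun b hb => by
      obtain ⟨g, rfl⟩ := ThreeTrans.class_isConj hD ha hb
      exact hLn.conj_mem a haL g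
    have htop : L = ⊤ := top_le_iff.1 (hD.2.2 ▸ (Subgroup.closure_le L).2 hsub)
    rw [htop, Subgroup.index_top]
    norm_num
  refine ⟨L, ⟨hD, hLn, hsimple, hnonab, hcent, hnot, fun a ha b hb hab =>
    ThreeTrans.mul_mem_of_commute hD hD2 h2' h3' hL ha hb hab, ?_, hF⟩⟩
  intro a ha
  by_contra hcon
  push Not at hcon
  have hsub : D ⊆ (L ⊔ Subgroup.zpowers a : Subgroup G) := fun b hb => by
    rw [← ThreeTrans.mul_self_mul hD.1 ha b]
    exact mul_mem (Subgroup.mem_sup_right (Subgroup.mem_zpowers a))
      (Subgroup.mem_sup_left (hcon b hb))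
  have htop : L ⊔ Subgroup.zpowers a = ⊤ := top_le_iff.1 (hD.2.2 ▸ (Subgroup.closure_le _).2 hsub)
  refine hidx ?_
  have h2a : Nat.card ↥(Subgroup.zpowers a) ≤ 2 := by
    rw [Nat.card_zpowers]; exact le_of_eq (hD.1.1 a ha)
  have hpi : Function.Surjective ((QuotientGroup.mk' L).comp (Subgroup.zpowers a).subtype) := by
    intro q
    obtain ⟨g, rfl⟩ := QuotientGroup.mk'_surjective L q
    have hg : g ∈ ((L ⊔ Subgroup.zpowers a : Subgroup G) : Set G) := by rw [htop]; trivial
    rw [Subgroup.normal_mul] at hg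
    obtain ⟨l, hl, k, hk, rfl⟩ := Set.mem_mul.1 hg
    refine ⟨⟨k, hk⟩, ?_⟩
    rw [MonoidHom.comp_apply, map_mul, show QuotientGroup.mk' L l = 1 from
      (QuotientGroup.eq_one_iff l).2 hl, one_mul]
    rfl
  exact le_trans (Nat.card_le_card_of_surjective _ hpi) h2a

namespace Data

variable {L : Subgroup G} (h : Data D L) {d : G} (hd : d ∈ D)

include h

/-- Members in different cosets of `L` have product of order three modulo `L`. -/
theorem orderOf_mk [L.Normal] {a b : G} (ha : a ∈ D) (hb : b ∈ D) (hab : a * b ∉ L) :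
    orderOf (QuotientGroup.mk (a * b) : G ⧸ L) = 3 := by
  have hnc : ¬ Commute a b := fun hc => hab (h.commMem a ha b hb hc)
  have := Fact.mk Nat.prime_three
  refine orderOf_eq_prime ?_ fun e => hab ((QuotientGroup.eq_one_iff _).1 e)
  rw [← QuotientGroup.mk_pow, ThreeTrans.cube_of_not_commute h.cls.1 ha hb hnc, QuotientGroup.mk_one]

include hd

/-- Three divides the index of `L`. -/
theorem three_dvd_index : 3 ∣ L.index := by
  haveI := h.normal
  obtain ⟨b, hb, hab⟩ := h.twoCosets d hd
  rw [Subgroup.index_eq_card, ← h.orderOf_mk hd hb hab]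
  exact orderOf_dvd_natCard _

end Data

/-- The group generated by `L` and one member. -/
abbrev coset (L : Subgroup G) (d : G) : Subgroup G := L ⊔ Subgroup.zpowers d

/-- Its members. -/
def cosetSet (D : Set G) (L : Subgroup G) (d : G) : Set ↥(coset L d) := {x | (x : G) ∈ D}

namespace Data

variable {L : Subgroup G} (h : Data D L) {d : G} (hd : d ∈ D)

include h hd

theorem coset_cases {x : G} (hx : x ∈ coset L d) : x ∈ L ∨ x * d ∈ L := by
  haveI := h.normal
  have hx' : x ∈ ((coset L d : Subgroup G) : Set G) := hx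
  rw [Subgroup.normal_mul] at hx'
  obtain ⟨l, hl, k, hk, rfl⟩ := Set.mem_mul.1 hx'
  obtain ⟨n, rfl⟩ := Subgroup.mem_zpowers_iff.1 hk
  rcases Int.even_or_odd n with ⟨j, rfl⟩ | ⟨j, rfl⟩
  · refine Or.inl ?_
    rw [zpow_add, ← (Commute.refl d).mul_zpow, ThreeTrans.mul_self h.cls.1 hd, one_zpow, mul_one]
    exact hl
  · refine Or.inr ?_
    rw [zpow_add, two_mul, zpow_add, ← (Commute.refl d).mul_zpow, ThreeTrans.mul_self h.cls.1 hd,
      one_zpow, one_mul, zpow_one, mul_assoc, ThreeTrans.mul_self h.cls.1 hd, mul_one]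
    exact hl

/-- The derived group of the coset group is `L`. -/
theorem commutator_coset : commutator ↥(coset L d) = L.subgroupOf (coset L d) := by
  haveI := h.normal
  have hle : L ≤ coset L d := le_sup_left
  refine le_antisymm ?_ ?_
  · have key : ∀ x : ↥(coset L d), ∃ k : ℤ, (x : G) * (d ^ k)⁻¹ ∈ L := fun x => by
      rcases h.coset_cases hd x.2 with hx | hx
      · exact ⟨0, by simpa using hx⟩
      · exact ⟨1, by rwa [zpow_one, ThreeTrans.inv_eq h.cls.1 hd]⟩
    rw [commutator_def, Subgroup.commutator_le]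
    intro x _ y _
    obtain ⟨i, hi⟩ := key x
    obtain ⟨j, hj⟩ := key y
    show ((⁅x, y⁆ : ↥(coset L d)) : G) ∈ L
    rw [← QuotientGroup.eq_one_iff]
    show QuotientGroup.mk' L ((x : G) * y * (x : G)⁻¹ * (y : G)⁻¹) = 1
    have ex : QuotientGroup.mk' L (x : G) = QuotientGroup.mk' L d ^ i := by
      rw [← map_zpow, ← div_eq_one, ← map_div, div_eq_mul_inv]
      exact (QuotientGroup.eq_one_iff _).2 hi
    have ey : QuotientGroup.mk' L (y : G) = QuotientGroup.mk' L d ^ j := by
      rw [← map_zpow, ← div_eq_one, ← map_div, div_eq_mul_inv]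
      exact (QuotientGroup.eq_one_iff _).2 hj
    simp only [map_mul, map_inv, ex, ey]
    group
  · haveI := h.simple
    have hperf : ⁅L, L⁆ = L := by
      obtain ⟨a, b, hab⟩ := h.nonab
      rcases IsSimpleGroup.eq_bot_or_eq_top_of_normal (commutator ↥L) inferInstance with e | e
      · refine absurd ?_ hab
        refine commutatorElement_eq_one_iff_mul_comm.1 ?_
        have := Subgroup.commutator_mem_commutator (Subgroup.mem_top a) (Subgroup.mem_top b)
        rwa [← commutator_def, e, Subgroup.mem_bot] at this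
      · rw [← Subgroup.map_subtype_commutator, e, ← MonoidHom.range_eq_map, Subgroup.range_subtype]
    refine (Subgroup.map_le_map_iff_of_injective (Subgroup.subtype_injective (coset L d))).1 ?_
    rw [Subgroup.map_subgroupOf_eq_of_le hle]
    conv_lhs => rw [← hperf]
    rw [Subgroup.map_subtype_commutator]
    exact Subgroup.commutator_mono hle hle

/-- The derived group of the coset group is isomorphic to `L`. -/
theorem derived_equiv : Nonempty (↥(commutator ↥(coset L d)) ≃* ↥L) :=
  ⟨(MulEquiv.subgroupCongr (h.commutator_coset hd)).trans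
    (Subgroup.subgroupOfEquivOfLe le_sup_left)⟩

/-- A normal subgroup of the coset group that is not centralised by `L` contains `L`. -/
theorem le_of_normal {N : Subgroup ↥(coset L d)} (hN : N.Normal) (hne : N ≠ ⊥) :
    L ≤ N.map (coset L d).subtype := by
  haveI := h.normal
  haveI := h.simple
  haveI := hN
  have hle : L ≤ coset L d := le_sup_left
  let M : Subgroup ↥L := N.comap (Subgroup.inclusion hle)
  rcases IsSimpleGroup.eq_bot_or_eq_top_of_normal M inferInstance with e | e
  · exfalso
    refine hne ((Subgroup.eq_bot_iff_forall N).2 fun x hx => Subtype.ext ?_)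
    have hc : (x : G) ∈ Subgroup.centralizer (L : Set G) := Subgroup.mem_centralizer_iff.2 fun l hl => by
      have hm : (⟨l * x * l⁻¹ * (x : G)⁻¹, ?_⟩ : ↥L) ∈ M := ?_
      rotate_left
      · rw [mul_assoc, mul_assoc]
        refine mul_mem hl ?_
        rw [← mul_assoc]
        exact h.normal.conj_mem _ (inv_mem hl) _
      · exact N.mul_mem (hN.conj_mem x hx ⟨l, hle hl⟩) (N.inv_mem hx)
      rw [e, Subgroup.mem_bot] at hm
      have h1 : l * x * l⁻¹ * (x : G)⁻¹ = 1 := congrArg Subtype.val hm
      exact mul_inv_eq_iff_eq_mul.1 (mul_inv_eq_one.1 h1)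
    rw [h.cent, Subgroup.mem_bot] at hc
    exact hc
  · intro l hl
    exact ⟨⟨l, hle hl⟩, (show (⟨l, hl⟩ : ↥L) ∈ M by rw [e]; trivial), rfl⟩

/-- The members in the coset group satisfy the hypothesis of the induction. -/
theorem hyp : FischerThm.Hyp (cosetSet D L d) := by
  haveI := h.normal
  haveI := h.simple
  set C := coset L d with hC
  set E := cosetSet D L d with hE
  have hdC : d ∈ C := Subgroup.mem_sup_right (Subgroup.mem_zpowers d)
  have hset : IsThreeTranspositionSet E := by
    refine ⟨fun x hx => ?_, fun x hx y hy => ?_⟩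
    · rw [← Subgroup.orderOf_coe]; exact h.cls.1.1 _ hx
    · rcases h.cls.1.2 _ hx _ hy with e | e
      · exact Or.inl (Subtype.ext e)
      · exact Or.inr (Subtype.ext e)
  have hconj : ∀ (g : ↥C), ∀ x ∈ E, g * x * g⁻¹ ∈ E := fun g x hx =>
    ThreeTrans.class_conj h.cls (g : G) _ hx
  have hgen : ∀ N : Subgroup ↥C, N.Normal → (⟨d, hdC⟩ : ↥C) ∈ N → N = ⊤ := by
    intro N hN hdN
    have hne : N ≠ ⊥ := fun e => by
      rw [e, Subgroup.mem_bot] at hdN
      exact ThreeTrans.ne_one h.cls.1 hd (congrArg Subtype.val hdN)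
    have hL := h.le_of_normal hd hN hne
    have hle : C ≤ N.map C.subtype :=
      sup_le hL ((Subgroup.zpowers_le).2 ⟨⟨d, hdC⟩, hdN, rfl⟩)
    rw [eq_top_iff]
    intro x _
    obtain ⟨y, hy, e⟩ := hle x.2
    rwa [← Subtype.ext e]
  have hclosE : Subgroup.closure E = ⊤ :=
    hgen _ (ThreeTrans.closure_normal hconj) (Subgroup.subset_closure (by exact hd))
  have hclass : IsThreeTranspositionClass E := by
    refine ⟨hset, ⟨⟨d, hdC⟩, hd, Set.Subset.antisymm (fun x hx => ?_) fun x hx => ?_⟩, hclosE⟩
    · by_contra hnc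
      set A : Set ↥C := {y | IsConj ⟨d, hdC⟩ y} with hA
      have hAconj : ∀ (g : ↥C), ∀ y ∈ A, g * y * g⁻¹ ∈ A := fun g y hy =>
        hy.trans (isConj_iff.2 ⟨g, rfl⟩)
      have hAtop := hgen _ (ThreeTrans.closure_normal hAconj)
        (Subgroup.subset_closure (show (⟨d, hdC⟩ : ↥C) ∈ A from IsConj.refl _))
      have hcomm : ∀ y ∈ A, Commute x y := by
        intro y hy
        by_contra hxy
        have hyE : y ∈ E := by
          obtain ⟨g, rfl⟩ := isConj_iff.1 hy
          exact hconj g _ hd
        refine hnc (hy.trans (isConj_iff.2 ⟨y * x, ?_⟩))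
        rw [mul_inv_rev, ThreeTrans.inv_eq hset hx, ThreeTrans.inv_eq hset hyE]
        calc y * x * y * (x * y) = y * (x * y * x) * y := by group
          _ = y * (y * x * y) * y := by rw [ThreeTrans.braid hset hx hyE hxy]
          _ = y * y * x * (y * y) := by group
          _ = x := by rw [ThreeTrans.mul_self hset hyE, one_mul, mul_one]
      have hz : (x : G) ∈ Subgroup.centralizer (L : Set G) :=
        Subgroup.mem_centralizer_iff.2 fun l hl =>
          (congrArg Subtype.val (ThreeTrans.commute_all hAtop hcomm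
            ⟨l, Subgroup.mem_sup_left hl⟩).eq).symm
      rw [h.cent, Subgroup.mem_bot] at hz
      exact ThreeTrans.ne_one h.cls.1 hx hz
    · obtain ⟨g, rfl⟩ := isConj_iff.1 hx
      exact hconj g _ hd
  refine ⟨hclass, fun N hN hs => ?_, ?_⟩
  · by_contra hne
    have hL := h.le_of_normal hd hN hne
    obtain ⟨a, b, hab⟩ := h.nonab
    have : Group.IsSolvable ↥L := Core.isSolvable_mono (Core.isSolvable_map hs _) hL
    exact hab ((IsSimpleGroup.comm_iff_isSolvable (G := ↥L)).2 this a b)
  · obtain ⟨a, b, hab⟩ := h.nonab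
    refine le_antisymm (Subgroup.commutator_le_self _) ?_
    rcases IsSimpleGroup.eq_bot_or_eq_top_of_normal (commutator ↥L) inferInstance with e | e
    · refine absurd ?_ hab
      refine commutatorElement_eq_one_iff_mul_comm.1 ?_
      have := Subgroup.commutator_mem_commutator (Subgroup.mem_top a) (Subgroup.mem_top b)
      rwa [← commutator_def, e, Subgroup.mem_bot] at this
    · refine (Subgroup.map_le_map_iff_of_injective (Subgroup.subtype_injective C)).1 ?_
      rw [Subgroup.map_commutator, h.commutator_coset hd,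
        Subgroup.map_subgroupOf_eq_of_le le_sup_left, ← Subgroup.map_subtype_commutator, e,
        ← MonoidHom.range_eq_map, Subgroup.range_subtype]

end Data

end Cfsg.Agent.Triality3T
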